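import Groth.Agent.H78.Faithful.Main
import Groth.Agent.H78.FormalFun.MittagLeffler
import Groth.Agent.H78.FormalFun.ProperSupport

/-!
# Morphisms of completions of modules with supports meeting properly
-/

set_option linter.style.haveILetI false

noncomputable section

universe u

open CategoryTheory Limits AlgebraicGeometry Opposite TopologicalSpace

namespace Groth.Agent.H78.Faithful.Completion

open Groth.Agent.Lib Groth.Agent.H78.FormalFun.Basic Groth.Agent.H78.Faithful.Main

variable {A : Type u} [CommRing A] {X : Scheme.{u}} [X.Over (Spec (CommRingCat.of A))]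

lemma app_le (I : Ideal A) {M N : X.Modules}
    (ψ : _root_.Formal.completion I M ⟶ _root_.Formal.completion I N) {k l : ℕ} (h : k ≤ l) :
    ψ.app (op l) ≫ Formal2.modPowLE I (Nat.succ_le_succ h) N =
      Formal2.modPowLE I (Nat.succ_le_succ h) M ≫ ψ.app (op k) := by
  induction l, h using Nat.le_induction with
  | base =>
    rw [FormalFun.MittagLeffler.modPowLE_refl, FormalFun.MittagLeffler.modPowLE_refl]
    exact (Category.comp_id _).trans (Category.id_comp _).symm
  | succ l h ih =>
    have hnat := ψ.naturality (homOfLE (Nat.le_succ l)).op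
    simp only [_root_.Formal.completion, Functor.ofOpSequence_map_homOfLE_succ] at hnat
    rw [← modPowLE_comp I (Nat.succ_le_succ h) (Nat.le_succ (l + 1)) N,
      ← modPowLE_comp I (Nat.succ_le_succ h) (Nat.le_succ (l + 1)) M, modPowLE_succ, modPowLE_succ]
    refine ((Category.assoc _ _ _).symm.trans ?_).trans (Category.assoc _ _ _).symm
    exact ((congrArg (· ≫ Formal2.modPowLE I (Nat.succ_le_succ h) N) hnat.symm).trans
      (Category.assoc _ _ _)).trans (congrArg (_root_.Formal.modPowTrans I (l + 1) M ≫ ·) ih)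

lemma support_homSh [IsLocallyNoetherian X] {M N : X.Modules} (hM : Coh.IsCoh M) :
    CohB1.support (_root_.RefHull.homSh M N) ⊆ CohB1.support M ∩ CohB1.support N := by
  intro x hx
  refine ⟨fun h => hx ?_, fun h => hx ?_⟩ <;>
  · haveI := h
    haveI : Subsingleton (_root_.RefHull.StalkHom M N x) :=
      ⟨fun a b => LinearMap.ext fun v => by
        first
        | exact Subsingleton.elim _ _
        | (rw [Subsingleton.elim v 0, map_zero, map_zero])⟩
    exact (RefHull.HomSh.evalStalk_injective hM x).subsingleton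

variable (I : Ideal A) [IsNoetherian X] {M N : X.Modules}

theorem existsUnique_of_bijective (hM : Coh.IsCoh M) (hN : Coh.IsCoh N)
    (hbij : Function.Bijective (_root_.Formal.toHHlim I (_root_.RefHull.homSh M N) 0))
    (ψ : _root_.Formal.completion I M ⟶ _root_.Formal.completion I N) :
    ∃! φ : M ⟶ N, ∀ n : ℕ, _root_.Formal.modPowπ I (n + 1) M ≫ ψ.app (op n) =
      φ ≫ _root_.Formal.modPowπ I (n + 1) N := by
  let p : ∀ n, _root_.Formal.modPow I (n + 1) M ⟶ _root_.Formal.modPow I (n + 1) N := fun n =>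
    ψ.app (op n)
  have hp : ∀ {k l : ℕ} (h : k ≤ l), p l ≫ Formal2.modPowLE I (Nat.succ_le_succ h) N =
      Formal2.modPowLE I (Nat.succ_le_succ h) M ≫ p k := fun h => app_le I ψ h
  let θ : ∀ k, M ⟶ _root_.Formal.modPow I k N := fun k =>
    _root_.Formal.modPowπ I (k + 1) M ≫ p k ≫ Formal2.modPowLE I (Nat.le_succ k) N
  have hθ : ∀ {k l : ℕ} (h : k ≤ l), θ l ≫ Formal2.modPowLE I h N = θ k := fun {k l} h => by
    have e : Formal2.modPowLE I (Nat.le_succ l) N ≫ Formal2.modPowLE I h N =
        Formal2.modPowLE I (Nat.succ_le_succ h) N ≫ Formal2.modPowLE I (Nat.le_succ k) N := by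
      rw [modPowLE_comp, modPowLE_comp]
    simp only [θ, Category.assoc, e]
    rw [← Category.assoc (p l), hp h, Category.assoc, ← Category.assoc (_root_.Formal.modPowπ I (l + 1) M),
      Formal2.modPowπ_modPowLE]
  obtain ⟨φ, hφ, huniq⟩ := existsUnique_hom hM hN hbij θ hθ
  have h1 : ∀ n, θ (n + 1) = _root_.Formal.modPowπ I (n + 1) M ≫ p n := fun n => by
    simp only [θ]
    rw [show Formal2.modPowLE I (Nat.le_succ (n + 1)) N = Formal2.modPowLE I (Nat.succ_le_succ (Nat.le_succ n)) N
      from rfl, hp (Nat.le_succ n), ← Category.assoc, Formal2.modPowπ_modPowLE]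
  refine ⟨φ, fun n => ((hφ (n + 1)).trans (h1 n)).symm, fun φ' hφ' => huniq φ' fun k => ?_⟩
  rw [← hθ (Nat.le_succ k), show θ (k + 1) = φ' ≫ _root_.Formal.modPowπ I (k + 1) N from
    (h1 k).trans (hφ' k), Category.assoc, Formal2.modPowπ_modPowLE]

theorem existsUnique_of_good [IsNoetherianRing A] [IsAdicComplete I A] {C : X.Modules → Prop}
    (hC : Good A C) (hM : Coh.IsCoh M) (hN : Coh.IsCoh N) (hP : C (_root_.RefHull.homSh M N))
    (ψ : _root_.Formal.completion I M ⟶ _root_.Formal.completion I N) :
    ∃! φ : M ⟶ N, ∀ n : ℕ, _root_.Formal.modPowπ I (n + 1) M ≫ ψ.app (op n) =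
      φ ≫ _root_.Formal.modPowπ I (n + 1) N :=
  existsUnique_of_bijective I hM hN (FormalFun.Main.bijective_of_good A I X hC _ hP 0) ψ

end Groth.Agent.H78.Faithful.Completion
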