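import Groth.Agent.H78.Faithful.Compat
import Groth.Agent.H78.FormalFun.Main
import Groth.Agent.Lib.TensorMod.HomGlue
import Groth.Agent.Lib.Curves.GlobalSections
import Groth.Agent.Lib.Modules.Stalk

/-!
# Morphisms of coherent modules are morphisms of their completions
-/

set_option linter.style.haveILetI false

noncomputable section

universe u

open CategoryTheory Limits AlgebraicGeometry Opposite TopologicalSpace

namespace Groth.Agent.H78.Faithful.Main

open Groth.Agent.Lib Groth.Agent.Lib.TensorMod Groth.Agent.Lib.TensorMod.Dual Groth.Agent.Lib.TensorMod.HomGlue RefHull.SecHom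
open Groth.Agent.H78.Formal.Sections Groth.Agent.H78.FormalFun.Basic Groth.Agent.H78.Faithful.Compat

variable {A : Type u} [CommRing A] {X : Scheme.{u}} [X.Over (Spec (CommRingCat.of A))]

lemma h0Equiv_H {M N : X.Modules} (φ : M ⟶ N) (z : Coh.HH X M 0) :
    Curves.GlobalSections.h0Equiv N (H (A := A) 0 φ z) =
      φ.app ⊤ (Curves.GlobalSections.h0Equiv M z) := by
  change Sheaf.H.equiv₀ (Coh.toAb N) _ (Sheaf.H.map (Curves.LES.toAbMap φ) 0 z) = _
  rw [← Sheaf.H.equiv₀_naturality]
  rfl

lemma modPowLE_succ (I : Ideal A) (n : ℕ) (M : X.Modules) :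
    Formal2.modPowLE I (Nat.le_succ n) M = _root_.Formal.modPowTrans I n M := by
  rw [← cancel_epi (_root_.Formal.modPowπ I (n + 1) M), Formal2.modPowπ_modPowLE,
    _root_.Formal.modPowπ_trans]

lemma modPowLE_comp (I : Ideal A) {i j k : ℕ} (h : i ≤ j) (h' : j ≤ k) (M : X.Modules) :
    Formal2.modPowLE I h' M ≫ Formal2.modPowLE I h M = Formal2.modPowLE I (h.trans h') M := by
  rw [← cancel_epi (_root_.Formal.modPowπ I k M), ← Category.assoc, Formal2.modPowπ_modPowLE,
    Formal2.modPowπ_modPowLE, Formal2.modPowπ_modPowLE]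

/-- An open subset of a Noetherian scheme is a finite union of affine opens. -/
lemma exists_finite_cover [IsNoetherian X] (W : X.Opens) : ∃ (F : Finset (X.affineOpens)),
    (∀ V ∈ F, (V : X.Opens) ≤ W) ∧ ∀ x ∈ W, ∃ V ∈ F, x ∈ (V : X.Opens) := by
  classical
  have hc : ∀ x : W, ∃ U : X.affineOpens, x.1 ∈ (U : X.Opens) ∧ (U : X.Opens) ≤ W := fun x => by
    obtain ⟨U, hU, hx, hle⟩ := exists_isAffineOpen_mem_and_subset (X := X) (U := W) x.2
    exact ⟨⟨U, hU⟩, hx, hle⟩
  choose U hxU hUW using hc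
  obtain ⟨F, hF⟩ := (TopologicalSpace.NoetherianSpace.isCompact (W : Set X)).elim_finite_subcover
    (fun x => ((U x : X.Opens) : Set X)) (fun x => (U x).1.2) fun x hx => Set.mem_iUnion.mpr ⟨⟨x, hx⟩, hxU _⟩
  refine ⟨F.image U, fun V hV => ?_, fun x hx => ?_⟩
  · obtain ⟨y, -, rfl⟩ := Finset.mem_image.1 hV
    exact hUW y
  · obtain ⟨y, hy, hxy⟩ := Set.mem_iUnion₂.1 (hF hx)
    exact ⟨U y, Finset.mem_image.2 ⟨y, hy, rfl⟩, hxy⟩

variable {I : Ideal A} [IsNoetherian X] {M N : X.Modules}

/-- Full faithfulness of completion, given formal functions for sections of the sheaf Hom. -/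
theorem existsUnique_hom (hM : Coh.IsCoh M) (hN : Coh.IsCoh N)
    (hbij : Function.Bijective (_root_.Formal.toHHlim I (_root_.RefHull.homSh M N) 0)) (θ : ∀ k, M ⟶ _root_.Formal.modPow I k N)
    (hθ : ∀ {k l} (h : k ≤ l), θ l ≫ Formal2.modPowLE I h N = θ k) :
    ∃! φ : M ⟶ N, ∀ k, φ ≫ _root_.Formal.modPowπ I k N = θ k := by
  classical
  haveI := hM.1
  haveI := hN.1
  let P := _root_.RefHull.homSh M N
  haveI := RefHull.HomSh.isQCoh_homSh hM hN.1 (X := X)
  obtain ⟨F, -, hF⟩ := exists_finite_cover (X := X) ⊤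
  choose G hGle hG using fun i : {V // V ∈ F} × {V // V ∈ F} =>
    exists_finite_cover (X := X) ((i.1.1 : X.Opens) ⊓ (i.2.1 : X.Opens))
  let T : Finset X.affineOpens := F ∪ Finset.univ.biUnion G
  choose cV hcV using fun V : X.affineOpens => exists_kernel_bound (I := I) hM hN V.2
  let c := T.sup cV
  -- two local homomorphisms with the same deep reduction agree in the reduction of the sheaf Hom
  have key : ∀ V ∈ T, ∀ (k : ℕ) (g g' : Γ(P, (V : X.Opens))), Compat (θ (k + c)) g →
      Compat (θ (k + c)) g' →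
        (_root_.Formal.modPowπ I k P).app V g = (_root_.Formal.modPowπ I k P).app V g' := by
    intro V hV k g g' hg hg'
    have h1 := (hg.sub hg' rfl).le (Nat.add_le_add_left (Finset.le_sup (f := cV) hV) k)
    rw [zero_comp] at h1
    have h2 := hcV V k (g - g') h1
    rwa [map_sub, sub_eq_zero] at h2
  let U : {V // V ∈ F} → X.Opens := fun i => (i.1 : X.Opens)
  have hU : (⊤ : X.Opens) ≤ iSup U := fun x _ => by
    obtain ⟨V, hV, hx⟩ := hF x trivial
    exact Opens.mem_iSup.2 ⟨⟨V, hV⟩, hx⟩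
  choose g hg using fun (k : ℕ) (i : {V // V ∈ F}) =>
    exists_lift_bound hM hN i.1.2 θ hθ (k + c)
  have hσ : ∀ k, ∃ σ : Γ(_root_.Formal.modPow I k P, ⊤),
      ∀ i, rs _ le_top σ = (_root_.Formal.modPowπ I k P).app (U i) (g k i) := by
    intro k
    obtain ⟨z, hz, -⟩ := TopCat.Sheaf.existsUnique_gluing'
      (⟨(_root_.Formal.modPow I k P).presheaf, (_root_.Formal.modPow I k P).isSheaf⟩ :
        TopCat.Sheaf Ab.{u} X) U ⊤ (fun i => homOfLE le_top) hU
      (fun i => (_root_.Formal.modPowπ I k P).app (U i) (g k i)) fun i j => by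
        change rs _ (inf_le_left : U i ⊓ U j ≤ U i) _ = rs _ (inf_le_right : U i ⊓ U j ≤ U j) _
        refine sections_ext_cover (fun V : {V // V ∈ G (i, j)} => (V.1 : X.Opens)) _
          (V := U i ⊓ U j) (fun x hx => ?_) fun V => ?_
        · obtain ⟨V, hV, hxV⟩ := hG (i, j) x hx
          exact Opens.mem_iSup.2 ⟨⟨V, hV⟩, hxV⟩
        · rw [rs_app, rs_app, rs_app, rs_app]
          have e := key V.1 (Finset.mem_union_right _ (Finset.mem_biUnion.2 ⟨(i, j), Finset.mem_univ _, V.2⟩)) k
            (rs P ((hGle (i, j) _ V.2).trans inf_le_left) (g k i))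
            (rs P ((hGle (i, j) _ V.2).trans inf_le_right) (g k j))
            ((hg k i).res _) ((hg k j).res _)
          have hle : U i ⊓ U j ⊓ (V.1 : X.Opens) ≤ (V.1 : X.Opens) := inf_le_right
          have e2 := congrArg (rs _ hle) e
          rw [rs_app, rs_app, rs_rs, rs_rs] at e2
          rw [rs_rs, rs_rs]
          exact e2
    exact ⟨z, hz⟩
  choose σ hσ using hσ
  have hcompat : ∀ k, (_root_.Formal.modPowTrans I k P).app ⊤ (σ (k + 1)) = σ k := fun k => by
    refine sections_ext_cover U _ (V := ⊤) hU fun i => ?_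
    have hle : (⊤ : X.Opens) ⊓ U i ≤ U i := inf_le_right
    rw [← rs_rs _ (le_top (a := U i)) hle, ← rs_rs _ (le_top (a := U i)) hle, hσ k i, rs_app, hσ (k + 1) i]
    refine congrArg (rs _ hle) ?_
    refine (congrArg (fun t : P ⟶ _ => t.app (U i) (g (k + 1) i)) (_root_.Formal.modPowπ_trans I k P)).trans ?_
    refine key i.1 (Finset.mem_union_left _ i.2) k _ _ ?_ (hg k i)
    have := (hg (k + 1) i).le (show k + c ≤ k + 1 + c by omega)
    rwa [hθ] at this
  let y : ∀ n, _root_.Formal.HHmodPow I P 0 n := fun n =>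
    (Curves.GlobalSections.h0Equiv (_root_.Formal.modPow I (n + 1) P)).symm (σ (n + 1))
  have hy : ∀ n, _root_.Formal.HHmodPowTrans I P 0 n (y (n + 1)) = y n := fun n => by
    refine (Curves.GlobalSections.h0Equiv (_root_.Formal.modPow I (n + 1) P)).injective ?_
    refine (h0Equiv_H (A := A) (_root_.Formal.modPowTrans I (n + 1) P) _).trans ?_
    exact ((congrArg (ConcreteCategory.hom ((_root_.Formal.modPowTrans I (n + 1) P).app ⊤))
      ((Curves.GlobalSections.h0Equiv (_root_.Formal.modPow I (n + 1 + 1) P)).apply_symm_apply _)).trans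
        (hcompat (n + 1))).trans ((Curves.GlobalSections.h0Equiv _).apply_symm_apply _).symm
  obtain ⟨x, hx⟩ := hbij.2 ⟨y, hy⟩
  let g₀ : Γ(P, ⊤) := Curves.GlobalSections.h0Equiv P x
  have hg₀ : ∀ k i, (_root_.Formal.modPowπ I k P).app (U i) (rs P le_top g₀) =
      (_root_.Formal.modPowπ I k P).app (U i) (g k i) := by
    intro k i
    rw [← hσ k i, ← hcompat k, ← rs_app]
    refine congrArg (rs _ le_top) ?_
    have h1 : (_root_.Formal.modPowπ I (k + 1) P).app ⊤ g₀ = σ (k + 1) := by
      refine (h0Equiv_H (A := A) (_root_.Formal.modPowπ I (k + 1) P) x).symm.trans ?_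
      have h2 : H (A := A) 0 (_root_.Formal.modPowπ I (k + 1) P) x = y k :=
        congrFun (congrArg Subtype.val hx) k
      rw [h2]
      exact (Curves.GlobalSections.h0Equiv _).apply_symm_apply _
    rw [← h1]
    exact congrArg (fun t : P ⟶ _ => t.app ⊤ g₀) (_root_.Formal.modPowπ_trans I k P).symm
  -- membership in the kernel of the reduction gives compatibility with zero
  have hzero : ∀ (k : ℕ) (i : {V // V ∈ F}) (d : Γ(P, U i)),
      (_root_.Formal.modPowπ I k P).app (U i) d = 0 →
        Compat (0 : M ⟶ _root_.Formal.modPow I k N) d := by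
    intro k i d hd
    rw [compat_iff _ i.1.2]
    intro m
    refine (modPowπ_eq_zero_iff I k i.1.2 _).2 ?_
    have h1 := Submodule.mem_map_of_mem
      (f := (LinearMap.applyₗ m).comp (toLin (M := M) (N := N) (U i)))
      ((modPowπ_eq_zero_iff I k i.1.2 d).1 hd)
    rw [Submodule.map_smul''] at h1
    exact Submodule.smul_mono le_rfl le_top h1
  refine ⟨RefHull.Colim.toHom g₀, fun k => ?_, fun φ' hφ' => ?_⟩
  · refine Modules.Stalk.hom_ext_stalk fun z => ConcreteCategory.ext_apply fun v => ?_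
    change _root_.RefHull.stalkMapₗ (_ ≫ _) z v = _root_.RefHull.stalkMapₗ _ z v
    refine (RefHull.Colim.stalkMap_comp _ _ z v).trans ?_
    rw [RefHull.Colim.stalkMap_toHom]
    obtain ⟨i, hi⟩ := Opens.mem_iSup.1 (hU (Opens.mem_top z))
    have h1 : Compat (θ k) (g k i) := by
      have := (hg k i).le (Nat.le_add_right k c)
      rwa [hθ] at this
    have h2 := hzero k i (rs P le_top g₀ - g k i) (by rw [map_sub, hg₀, sub_self])
    have h3 := LinearMap.congr_fun (h2 ⟨z, hi⟩) v
    have h4 := LinearMap.congr_fun (h1 ⟨z, hi⟩) v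
    rw [← h4]
    refine sub_eq_zero.1 ((map_sub (_root_.RefHull.stalkMapₗ _ z) _ _).symm.trans (h3.trans ?_))
    obtain ⟨V, hV, m, rfl⟩ := TopCat.Presheaf.exists_germ_eq M.presheaf v
    rw [_root_.RefHull.stalkMapₗ_germ]
    exact map_zero _
  · -- uniqueness
    let g' : Γ(P, ⊤) := _root_.RefHull.ofHom φ' ⊤
    have hc' : ∀ k, Compat (θ k) g' := fun k z => LinearMap.ext fun v => by
      rw [← hφ' k]
      exact (RefHull.Colim.stalkMap_comp φ' _ z.1 v).symm
    have heq : ∀ k, (_root_.Formal.modPowπ I k P).app ⊤ g' = (_root_.Formal.modPowπ I k P).app ⊤ g₀ := by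
      intro k
      refine sections_ext_cover U _ (V := ⊤) hU fun i => ?_
      have hle : (⊤ : X.Opens) ⊓ U i ≤ U i := inf_le_right
      rw [← rs_rs _ (le_top (a := U i)) hle, ← rs_rs _ (le_top (a := U i)) hle]
      refine congrArg (rs _ hle) ?_
      rw [rs_app, rs_app, hg₀]
      exact (key i.1 (Finset.mem_union_left _ i.2) k _ _ ((hc' (k + c)).res _) (hg k i))
    have hxx : (Curves.GlobalSections.h0Equiv P).symm g' = x := by
      refine hbij.1 (Subtype.ext (funext fun n => ?_))
      refine (Curves.GlobalSections.h0Equiv (_root_.Formal.modPow I (n + 1) P)).injective ?_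
      refine (h0Equiv_H (A := A) (_root_.Formal.modPowπ I (n + 1) P) _).trans ?_
      refine Eq.trans ?_ (h0Equiv_H (A := A) (_root_.Formal.modPowπ I (n + 1) P) x).symm
      exact (congrArg (ConcreteCategory.hom ((_root_.Formal.modPowπ I (n + 1) P).app ⊤))
        ((Curves.GlobalSections.h0Equiv P).apply_symm_apply g')).trans (heq (n + 1))
    have hg' : g' = g₀ := by
      change g' = Curves.GlobalSections.h0Equiv P x
      rw [← hxx]
      exact ((Curves.GlobalSections.h0Equiv P).apply_symm_apply g').symm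
    refine Modules.Stalk.hom_ext_stalk fun z => ConcreteCategory.ext_apply fun v => ?_
    change _root_.RefHull.stalkMapₗ φ' z v = _root_.RefHull.stalkMapₗ (RefHull.Colim.toHom g₀) z v
    rw [RefHull.Colim.stalkMap_toHom, ← hg']
    rfl

end Groth.Agent.H78.Faithful.Main
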