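import Groth.Agent.H78.Faithful.HomAR
import Groth.Agent.H78.Formal.Sections
import Groth.Agent.Lib.RefHull.Colim
import Groth.Prelude.Def_Formal2

/-!
# Local homomorphisms compatible with a morphism of reductions
-/

set_option linter.style.haveILetI false

noncomputable section

universe u

open CategoryTheory Limits AlgebraicGeometry Opposite TopologicalSpace

set_option linter.dupNamespace false

namespace Groth.Agent.H78.Faithful.Compat

open Groth.Agent.Lib Groth.Agent.Lib.TensorMod.Dual RefHull.SecHom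
open Groth.Agent.H78.Formal.Sections Groth.Agent.Lib.CohBasics.Affine

variable {A : Type u} [CommRing A] {X : Scheme.{u}} [X.Over (Spec (CommRingCat.of A))]
variable {I : Ideal A} {M N : X.Modules}

/-- `g` induces `θ` after reduction modulo `I^k`. -/
def Compat {k : ℕ} (θ : M ⟶ _root_.Formal.modPow I k N) {U : X.Opens}
    (g : Γ(_root_.RefHull.homSh M N, U)) : Prop :=
  ∀ y : U, (_root_.RefHull.stalkMapₗ (_root_.Formal.modPowπ I k N) y.1).comp (g.1 y) =
    _root_.RefHull.stalkMapₗ θ y.1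

lemma Compat.res {k : ℕ} {θ : M ⟶ _root_.Formal.modPow I k N} {U V : X.Opens} (h : V ≤ U)
    {g : Γ(_root_.RefHull.homSh M N, U)} (hg : Compat θ g) :
    Compat θ (rs (_root_.RefHull.homSh M N) h g) := fun y => hg ⟨y.1, h y.2⟩

lemma Compat.sub {k : ℕ} {θ θ' : M ⟶ _root_.Formal.modPow I k N} {U : X.Opens}
    {g g' : Γ(_root_.RefHull.homSh M N, U)} (hg : Compat θ g) (hg' : Compat θ' g') (h : θ = θ') :
    Compat (0 : M ⟶ _root_.Formal.modPow I k N) (g - g') := by
  subst h
  intro y
  refine LinearMap.ext fun v => ?_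
  obtain ⟨V, hV, m, rfl⟩ := TopCat.Presheaf.exists_germ_eq M.presheaf v
  rw [_root_.RefHull.stalkMapₗ_germ]
  change _root_.RefHull.stalkMapₗ _ y.1 (g.1 y _ - g'.1 y _) = _
  rw [map_sub]
  refine Eq.trans ?_ (map_zero ((_root_.Formal.modPow I k N).presheaf.germ V y.1 hV).hom).symm
  exact sub_eq_zero.2 ((LinearMap.congr_fun (hg y) _).trans (LinearMap.congr_fun (hg' y) _).symm)

lemma Compat.le {k l : ℕ} (h : k ≤ l) {θ : M ⟶ _root_.Formal.modPow I l N} {U : X.Opens}
    {g : Γ(_root_.RefHull.homSh M N, U)} (hg : Compat θ g) :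
    Compat (θ ≫ Formal2.modPowLE I h N) g := fun y => LinearMap.ext fun v => by
  rw [← Formal2.modPowπ_modPowLE I h N]
  change _root_.RefHull.stalkMapₗ _ y.1 (g.1 y v) = _
  rw [RefHull.Colim.stalkMap_comp, RefHull.Colim.stalkMap_comp]
  exact congrArg _ (LinearMap.congr_fun (hg y) v)

variable [M.IsQuasicoherent]

lemma compat_iff {k : ℕ} (θ : M ⟶ _root_.Formal.modPow I k N) {U : X.Opens} (hU : IsAffineOpen U)
    (g : Γ(_root_.RefHull.homSh M N, U)) :
    Compat θ g ↔ ∀ m : Γ(M, U),
      (_root_.Formal.modPowπ I k N).app U (app g le_rfl m) = θ.app U m := by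
  constructor
  · intro h m
    refine sec_ext fun y hy => ?_
    rw [← _root_.RefHull.stalkMapₗ_germ, ← _root_.RefHull.stalkMapₗ_germ, germ_app]
    exact LinearMap.congr_fun (h ⟨y, hy⟩) _
  · intro h y
    refine stalk_ext hU y.2 fun m => ?_
    rw [LinearMap.comp_apply, ← germ_app g le_rfl, _root_.RefHull.stalkMapₗ_germ,
      _root_.RefHull.stalkMapₗ_germ, h]

/-- Sections of the sheaf Hom on an affine open as linear maps. -/
def toLin (U : X.Opens) :
    Γ(_root_.RefHull.homSh M N, U) →ₗ[Γ(X, U)] (Γ(M, U) →ₗ[Γ(X, U)] Γ(N, U)) where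
  toFun g := app g le_rfl
  map_add' a b := LinearMap.ext fun m => sec_ext fun y hy => by
    rw [LinearMap.add_apply, map_add, germ_app, germ_app, germ_app]; rfl
  map_smul' r a := LinearMap.ext fun m => by
    rw [RingHom.id_apply, LinearMap.smul_apply, RefHull.HomSh.app_smul_left, rf_self]

lemma toLin_bijective {U : X.Opens} (hU : IsAffineOpen U) :
    Function.Bijective (toLin (M := M) (N := N) U) := by
  refine ⟨fun a b hab => sec_ext_of_affine hU le_rfl fun m => LinearMap.congr_fun hab _, fun φ => ?_⟩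
  obtain ⟨g, hg⟩ := exists_sec_of_linear hU le_rfl φ.toAddMonoidHom fun a b => by
    rw [rf_self]; exact φ.map_smul a b
  refine ⟨g, LinearMap.ext fun m => ?_⟩
  have := hg m
  rwa [rs_self] at this

variable [IsLocallyNoetherian X] [N.IsQuasicoherent]

/-- Local homomorphisms inducing zero on a deep reduction vanish in the reduction of the sheaf Hom. -/
theorem exists_kernel_bound (hM : Coh.IsCoh M) (hN : Coh.IsCoh N) {U : X.Opens} (hU : IsAffineOpen U) :
    ∃ c, ∀ (k : ℕ) (g : Γ(_root_.RefHull.homSh M N, U)),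
      Compat (0 : M ⟶ _root_.Formal.modPow I (k + c) N) g →
        (_root_.Formal.modPowπ I k (_root_.RefHull.homSh M N)).app U g = 0 := by
  haveI := RefHull.HomSh.isQCoh_homSh hM hN.1 (X := X)
  haveI := CohBasics.Closure.finite_sections hM hU
  haveI := CohBasics.Closure.finite_sections hN hU
  haveI : IsNoetherianRing Γ(X, U) := IsLocallyNoetherian.component_noetherian ⟨U, hU⟩
  obtain ⟨c, hc⟩ := HomAR.exists_kernel_bound (sIdeal I U) Γ(M, U) Γ(N, U)
  refine ⟨c, fun k g hg => ?_⟩
  rw [modPowπ_eq_zero_iff I k hU]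
  have h1 := hc k (toLin U g) fun m => (modPowπ_eq_zero_iff I (k + c) hU _).1 <| by
    exact ((compat_iff _ hU g).1 hg m).trans rfl
  rw [← LinearMap.range_eq_top.2 (toLin_bijective (M := M) (N := N) hU).2, ← Submodule.map_top,
    ← Submodule.map_smul''] at h1
  obtain ⟨g', hg', he⟩ := h1
  rwa [(toLin_bijective hU).1 he] at hg'

/-- A compatible system of morphisms to the reductions is locally induced by homomorphisms. -/
theorem exists_lift_bound (hM : Coh.IsCoh M) (hN : Coh.IsCoh N) {U : X.Opens} (hU : IsAffineOpen U)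
    (θ : ∀ k, M ⟶ _root_.Formal.modPow I k N)
    (hθ : ∀ {k l} (h : k ≤ l), θ l ≫ Formal2.modPowLE I h N = θ k) (k : ℕ) :
    ∃ g : Γ(_root_.RefHull.homSh M N, U), Compat (θ k) g := by
  haveI := CohBasics.Closure.finite_sections hM hU
  haveI := CohBasics.Closure.finite_sections hN hU
  haveI : IsNoetherianRing Γ(X, U) := IsLocallyNoetherian.component_noetherian ⟨U, hU⟩
  obtain ⟨c, hc⟩ := HomAR.exists_lift_bound (sIdeal I U) Γ(M, U) Γ(N, U)
  obtain ⟨φ, hφ⟩ := hc k Γ(_root_.Formal.modPow I (k + c) N, U)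
    (secₗ (_root_.Formal.modPowπ I (k + c) N) U) (secₗ (θ (k + c)) U)
    (modPowπ_surjective I (k + c) hU) fun s hs => (modPowπ_eq_zero_iff I (k + c) hU s).1 hs
  obtain ⟨g, hg⟩ := (toLin_bijective hU).2 φ
  refine ⟨g, (compat_iff _ hU g).2 fun m => ?_⟩
  obtain ⟨x, hx⟩ := modPowπ_surjective I (k + c) hU ((θ (k + c)).app U m)
  have h1 : (_root_.Formal.modPowπ I k N).app U (φ m - x) = 0 :=
    (modPowπ_eq_zero_iff I k hU _).2 (hφ m x hx)
  rw [map_sub, sub_eq_zero] at h1
  rw [show app g le_rfl m = φ m from LinearMap.congr_fun hg m, h1,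
    ← Formal2.modPowπ_modPowLE I (Nat.le_add_right k c) N, ← hθ (Nat.le_add_right k c)]
  exact congrArg _ hx

end Groth.Agent.H78.Faithful.Compat
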