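import Groth.Agent.Lib.RefHull.HomSh
import Mathlib.RingTheory.Filtration

/-!
# Homomorphisms modulo powers of an ideal
-/

universe u

open Submodule

namespace Groth.Agent.H78.Faithful.HomAR

open Groth.Agent.Lib

variable {R : Type u} [CommRing R] [IsNoetherianRing R] (K : Ideal R)

/-- Artin–Rees for the range of a linear map. -/
theorem exists_preimage {E F : Type u} [AddCommGroup E] [Module R E] [AddCommGroup F] [Module R F]
    [Module.Finite R F] (d : E →ₗ[R] F) :
    ∃ c, ∀ (n : ℕ) (v : E), d v ∈ K ^ (n + c) • (⊤ : Submodule R F) →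
      ∃ e ∈ K ^ n • (⊤ : Submodule R E), d e = d v := by
  obtain ⟨c, hc⟩ := Ideal.exists_pow_inf_eq_pow_smul K (LinearMap.range d)
  refine ⟨c, fun n v hv => ?_⟩
  have h1 : d v ∈ K ^ (n + c) • (⊤ : Submodule R F) ⊓ LinearMap.range d := ⟨hv, v, rfl⟩
  rw [hc (n + c) (by omega), Nat.add_sub_cancel] at h1
  have h2 : d v ∈ Submodule.map d (K ^ n • (⊤ : Submodule R E)) := by
    rw [Submodule.map_smul'', Submodule.map_top]
    exact Submodule.smul_mono le_rfl inf_le_right h1
  exact h2

theorem mem_pi_smul {ι : Type} [Fintype ι] {N : Type u} [AddCommGroup N] [Module R N] (J : Ideal R)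
    (v : ι → N) (h : ∀ i, v i ∈ J • (⊤ : Submodule R N)) : v ∈ J • (⊤ : Submodule R (ι → N)) := by
  classical
  rw [← Finset.univ_sum_single v]
  refine Submodule.sum_mem _ fun i _ => ?_
  have := Submodule.mem_map_of_mem (f := LinearMap.single R (fun _ : ι => N) i) (h i)
  rw [Submodule.map_smul''] at this
  exact Submodule.smul_mono le_rfl le_top this

variable (M N : Type u) [AddCommGroup M] [Module R M] [Module.Finite R M] [AddCommGroup N]
  [Module R N] [Module.Finite R N]

/-- Linear maps landing deep in the filtration are deep in the filtration. -/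
theorem exists_kernel_bound : ∃ c, ∀ (n : ℕ) (φ : M →ₗ[R] N),
    (∀ m, φ m ∈ K ^ (n + c) • (⊤ : Submodule R N)) → φ ∈ K ^ n • (⊤ : Submodule R (M →ₗ[R] N)) := by
  obtain ⟨a, m, hm⟩ := Module.Finite.exists_fin (R := R) (M := M)
  let ι : (M →ₗ[R] N) →ₗ[R] (Fin a → N) := LinearMap.pi fun i => LinearMap.applyₗ (m i)
  obtain ⟨c, hc⟩ := exists_preimage K ι
  refine ⟨c, fun n φ hφ => ?_⟩
  obtain ⟨e, he, heq⟩ := hc n φ (mem_pi_smul _ _ fun i => hφ (m i))
  suffices e = φ from this ▸ he
  refine LinearMap.ext_on_range hm fun i => ?_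
  exact congrFun heq i

/-- A linear map to a deep reduction agrees with a linear map to the module, up to a bounded shift. -/
theorem exists_lift_bound : ∃ c, ∀ (n : ℕ) (Q : Type u) [AddCommGroup Q] [Module R Q] (q : N →ₗ[R] Q)
    (φ : M →ₗ[R] Q), Function.Surjective q → LinearMap.ker q ≤ K ^ (n + c) • (⊤ : Submodule R N) →
      ∃ g : M →ₗ[R] N, ∀ m x, q x = φ m → g m - x ∈ K ^ n • (⊤ : Submodule R N) := by
  obtain ⟨a, b, m, r, hm, hr, hlift⟩ := RefHull.HomSh.exists_gens_rels R M
  let d : (Fin a → N) →ₗ[R] (Fin b → N) := LinearMap.pi fun j => ∑ i, r j i • LinearMap.proj i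
  obtain ⟨c, hc⟩ := exists_preimage K d
  refine ⟨c, fun n Q _ _ q φ hq hker => ?_⟩
  choose x hx using fun i => hq (φ (m i))
  have hd : ∀ (v : Fin a → N) j, d v j = ∑ i, r j i • v i := fun v j => by
    simp [d, LinearMap.sum_apply]
  obtain ⟨e, he, heq⟩ := hc n x (mem_pi_smul _ _ fun j => hker (by
    rw [LinearMap.mem_ker, hd, map_sum]
    simp_rw [map_smul, hx, ← map_smul]
    rw [← map_sum, hr, map_zero]))
  obtain ⟨g, hg⟩ := hlift N (x - e) fun j => by
    rw [← hd, map_sub, heq, sub_self]; rfl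
  have hgx : ∀ i, g (m i) - x i ∈ K ^ n • (⊤ : Submodule R N) := fun i => by
    rw [hg, Pi.sub_apply, sub_sub_cancel_left]
    refine Submodule.neg_mem _ ?_
    have := Submodule.mem_map_of_mem (f := LinearMap.proj (R := R) (φ := fun _ : Fin a => N) i) he
    rw [Submodule.map_smul''] at this
    exact Submodule.smul_mono le_rfl le_top this
  refine ⟨g, fun v y hy => ?_⟩
  have hv : v ∈ Submodule.span R (Set.range m) := hm ▸ Submodule.mem_top
  obtain ⟨w, hw⟩ := (Submodule.mem_span_range_iff_exists_fun R).1 hv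
  have h1 : y - ∑ i, w i • x i ∈ K ^ n • (⊤ : Submodule R N) := by
    refine Submodule.smul_mono_left (Ideal.pow_le_pow_right (show n ≤ n + c by omega)) (hker ?_)
    rw [LinearMap.mem_ker, map_sub, hy, ← hw, map_sum, map_sum]
    simp only [map_smul, hx, sub_self]
  have h2 : g v - ∑ i, w i • x i ∈ K ^ n • (⊤ : Submodule R N) := by
    rw [← hw, map_sum, ← Finset.sum_sub_distrib]
    refine Submodule.sum_mem _ fun i _ => ?_
    rw [map_smul, ← smul_sub]
    exact Submodule.smul_mem _ _ (hgx i)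
  simpa using Submodule.sub_mem _ h2 h1

end Groth.Agent.H78.Faithful.HomAR
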