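import Groth.Agent.H78.Faithful.Compat
import Groth.Agent.Lib.Modules.AffineSections
import Mathlib.LinearAlgebra.FreeModule.Finite.Basic

/-!
# The sheaf Hom of finite locally free modules
-/

set_option linter.style.haveILetI false

universe u

open CategoryTheory AlgebraicGeometry TopologicalSpace

namespace Groth.Agent.H78.Faithful.HomLocFree

open Groth.Agent.Lib

theorem finite_projective_hom (R : Type u) [CommRing R] (M N : Type u) [AddCommGroup M] [Module R M] [Module.Finite R M] [Module.Projective R M] [AddCommGroup N] [Module R N] [Module.Finite R N] [Module.Projective R N] : Module.Finite R (M →ₗ[R] N) ∧ Module.Projective R (M →ₗ[R] N) := by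
  classical
  obtain ⟨n, p, hp⟩ := Module.Finite.exists_fin' R M
  obtain ⟨s, hs⟩ := Module.projective_lifting_property p LinearMap.id hp
  have : Module.Projective R (Fin n → N) :=
    Module.Projective.of_equiv ((finsuppLequivDFinsupp R).symm ≪≫ₗ Finsupp.linearEquivFunOnFinite R N (Fin n))
  have : Module.Projective R ((Fin n → R) →ₗ[R] N) :=
    Module.Projective.of_equiv ((Pi.basisFun R (Fin n)).constr R)
  have : Module.Finite R ((Fin n → R) →ₗ[R] N) :=
    Module.Finite.equiv ((Pi.basisFun R (Fin n)).constr R)
  have h : (LinearMap.lcomp R N s).comp (LinearMap.lcomp R N p) = LinearMap.id :=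
    LinearMap.ext fun φ => LinearMap.ext fun m => by
      simp only [LinearMap.comp_apply, LinearMap.lcomp_apply, LinearMap.id_apply]
      exact congrArg φ (LinearMap.congr_fun hs m)
  exact ⟨Module.Finite.of_surjective (LinearMap.lcomp R N s)
    (Function.LeftInverse.surjective fun φ => LinearMap.congr_fun h φ),
    Module.Projective.of_split _ _ h⟩

lemma isCoh_of_isFinLocFree {X : Scheme.{u}} [IsLocallyNoetherian X] {M : X.Modules}
    (hM : FlatMod.IsFinLocFree M) : Coh.IsCoh M := by
  haveI := Modules.AffineSections.isQCoh_of_isFinLocFree hM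
  exact CohBasics.Closure.isCoh_of_finite_sections fun U hU =>
    (Modules.AffineSections.finite_projective_sections hM hU).1

theorem isFinLocFree_homSh {X : Scheme.{u}} [IsLocallyNoetherian X] {M N : X.Modules} (hM : FlatMod.IsFinLocFree M)
    (hN : FlatMod.IsFinLocFree N) : FlatMod.IsFinLocFree (_root_.RefHull.homSh M N) := by
  haveI := Modules.AffineSections.isQCoh_of_isFinLocFree hM
  haveI := Modules.AffineSections.isQCoh_of_isFinLocFree hN
  haveI := RefHull.HomSh.isQCoh_homSh (isCoh_of_isFinLocFree hM) (isCoh_of_isFinLocFree hN).1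
  refine Modules.AffineSections.isFinLocFree_of_sections fun x => ?_
  obtain ⟨U, hU, hx⟩ := Formal.Sections.exists_affine x
  obtain ⟨hMf, hMp⟩ := Modules.AffineSections.finite_projective_sections hM hU
  obtain ⟨hNf, hNp⟩ := Modules.AffineSections.finite_projective_sections hN hU
  obtain ⟨hf, hp⟩ := finite_projective_hom Γ(X, U) Γ(M, U) Γ(N, U)
  let e := LinearEquiv.ofBijective (Compat.toLin (M := M) (N := N) U) (Compat.toLin_bijective hU)
  exact ⟨U, hU, hx, Module.Finite.equiv e.symm, Module.Projective.of_equiv e.symm⟩

end Groth.Agent.H78.Faithful.HomLocFree
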