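import Groth.Agent.H78.Faithful.HomLocFree
import Groth.Agent.H78.FormalFun.Basic
import Groth.Agent.Lib.RefHull.Reflexive
import Groth.Agent.H78.Faithful.Main
import Groth.Agent.Lib.TensorMod.HomGlue
import Groth.Agent.Lib.Curves.GlobalSections
import Mathlib.AlgebraicGeometry.QuasiAffine

/-!
# Formal sections of locally free modules on quasi-affine schemes
-/

set_option linter.style.haveILetI false

noncomputable section

universe u

open CategoryTheory Limits AlgebraicGeometry Opposite TopologicalSpace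

namespace Groth.Agent.H78.Faithful.QuasiAffine

open Groth.Agent.Lib Groth.Agent.Lib.TensorMod Groth.Agent.Lib.TensorMod.Dual
  Groth.Agent.Lib.TensorMod.HomGlue RefHull.SecHom Groth.Agent.Lib.CohBasics.Affine
open Groth.Agent.H78.Formal.Sections Groth.Agent.H78.Faithful.Compat

variable {X : Scheme.{u}} {E : X.Modules}

/-- A form evaluated on sections. -/
def ev (φ : E ⟶ Coh.structureModule X) (U : X.Opens) : Γ(E, U) →ₗ[Γ(X, U)] Γ(X, U) where
  toFun m := φ.app U m
  map_add' a b := map_add (φ.app U).hom a b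
  map_smul' r m := φ.app_smul r m

lemma rf_ev (φ : E ⟶ Coh.structureModule X) {U V : X.Opens} (h : V ≤ U) (m : Γ(E, U)) :
    rf h (ev φ U m) = ev φ V (rs E h m) :=
  rs_app φ h m

/-- A section killed by a dual basis is zero. -/
lemma eq_zero_of_forms [E.IsQuasicoherent] {D : X.Opens} (hD : IsAffineOpen D) {n : ℕ}
    (φ : Fin n → (E ⟶ Coh.structureModule X)) (s : Fin n → Γ(E, D))
    (hs : ∀ m, ∑ i, ev (φ i) D m • s i = m) {W : X.Opens} (hW : W ≤ D) (m : Γ(E, W))
    (h : ∀ i, ev (φ i) W m = 0) : m = 0 := by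
  refine sec_ext fun y hy => ?_
  rw [map_zero]
  obtain ⟨a, t, ha, e⟩ := StalkLoc.Basic.exists_smul_eq_germ hD (hW hy) (E.presheaf.germ W y hy m)
  refine ((X.mem_basicOpen a y (hW hy)).mp ha).smul_eq_zero.mp (e.trans ?_)
  have h1 : ∀ i, (Coh.structureModule X).presheaf.germ D y (hW hy) ((φ i).app D t) = 0 := fun i => by
    rw [← _root_.RefHull.stalkMapₗ_germ, ← e, map_smul, _root_.RefHull.stalkMapₗ_germ,
      show (φ i).app W m = 0 from h i, map_zero, smul_zero]
  rw [← hs t, map_sum]
  refine Finset.sum_eq_zero fun i _ => ?_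
  rw [Mero.germ_smul]
  refine smul_eq_zero_of_left ?_ _
  obtain ⟨V, hyV, iV, iV', hV⟩ := TopCat.Presheaf.germ_eq (Coh.structureModule X).presheaf y
    (hW hy) (hW hy) ((φ i).app D t) 0 ((h1 i).trans (map_zero _).symm)
  rw [map_zero] at hV
  rw [← TopCat.Presheaf.germ_res_apply X.presheaf iV y hyV]
  exact (congrArg (X.presheaf.germ V y hyV) hV).trans (map_zero _)

variable [IsNoetherian X]

/-- Global forms giving a dual basis on an affine basic open. -/
theorem exists_forms (hE : FlatMod.IsFinLocFree E) (f : Γ(X, ⊤)) (hD : IsAffineOpen (X.basicOpen f))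
    [QuasiSeparatedSpace X] :
    ∃ (n : ℕ) (φ : Fin n → (E ⟶ Coh.structureModule X)) (s : Fin n → Γ(E, X.basicOpen f)),
      ∀ m, ∑ i, ev (φ i) (X.basicOpen f) m • s i = m := by
  haveI := Modules.AffineSections.isQCoh_of_isFinLocFree hE
  let P := _root_.RefHull.homSh E (Coh.structureModule X)
  have hO := RefHull.Reflexive.isCoh_structure (X := X)
  haveI := hO.1
  haveI : P.IsQuasicoherent := RefHull.HomSh.isQCoh_homSh (HomLocFree.isCoh_of_isFinLocFree hE) hO.1
  let D := X.basicOpen f
  obtain ⟨hfin, hproj⟩ := Modules.AffineSections.finite_projective_sections hE hD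
  obtain ⟨n, p, hp⟩ := Module.Finite.exists_fin' Γ(X, D) Γ(E, D)
  obtain ⟨q, hq⟩ := Module.projective_lifting_property p LinearMap.id hp
  have hdual : ∀ m, ∑ i, (q m i) • p (Pi.single i 1) = m := fun m => by
    classical
    conv_rhs => rw [← LinearMap.id_apply (R := Γ(X, D)) m, ← hq, LinearMap.comp_apply,
      pi_eq_sum_univ' (q m), map_sum]
    simp_rw [map_smul]
  choose g hg using fun i => (toLin_bijective (M := E) (N := Coh.structureModule X) hD).2
    ((LinearMap.proj i).comp q)
  choose N G hG using fun i => (QCoh.Localizing.localizes_of_qcqs P isCompact_univ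
    (isQuasiSeparated_univ_iff.mpr inferInstance) f).ext' (g i)
  have hu : IsUnit (rf (le_top (a := D)) f) := RingedSpace.isUnit_res_basicOpen _ f
  obtain ⟨v, hv⟩ := hu
  refine ⟨n, fun i => RefHull.Colim.toHom (G i), fun i => (↑v⁻¹ : Γ(X, D)) ^ N i • p (Pi.single i 1),
    fun m => Eq.trans (Finset.sum_congr rfl fun i _ => ?_) (hdual m)⟩
  have h1 : ev (RefHull.Colim.toHom (G i)) D m = rf (le_top (a := D)) f ^ N i * q m i := by
    refine Eq.trans ?_ ((LinearMap.congr_fun (congrArg (toLin D) (hG i)) m).trans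
      (LinearMap.congr_fun ((map_smul (toLin D) _ _).trans (congrArg (_ • ·) (hg i))) m))
    exact sec_ext fun y hy => by
      change (Coh.structureModule X).presheaf.germ D y hy (app (G i) le_top m) =
        (Coh.structureModule X).presheaf.germ D y hy
          (app (QCoh.Localizing.res P (X.basicOpen_le f) (G i)) le_rfl m)
      rw [germ_app, germ_app]
      rfl
  rw [h1, smul_smul, mul_right_comm, ← mul_pow, ← hv, Units.mul_inv, one_pow, one_mul]

variable {A : Type u} [CommRing A] [X.Over (Spec (CommRingCat.of A))] (I : Ideal A)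

lemma desc_app {M N : X.Modules} (φ : M ⟶ N) (k : ℕ) :
    ∃ φb : _root_.Formal.modPow I k M ⟶ _root_.Formal.modPow I k N,
      _root_.Formal.modPowπ I k M ≫ φb = φ ≫ _root_.Formal.modPowπ I k N :=
  FormalFun.Basic.exists_desc _
    ((FormalFun.Basic.le_annHom_π I k N).trans (FormalFun.Basic.annHom_le_comp' _ _))

lemma mem_sIdeal_smul_top (K : Ideal A) {U : X.Opens} (a : Γ(X, U)) :
    a ∈ sIdeal K U → (show Γ(Coh.structureModule X, U) from a) ∈
      sIdeal K U • (⊤ : Submodule Γ(X, U) Γ(Coh.structureModule X, U)) := fun h => by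
  rw [Gen.smul_one_eq a]
  exact Submodule.smul_mem_smul h Submodule.mem_top

lemma sub_mem_of_π_eq (k : ℕ) {U : X.Opens} (hU : IsAffineOpen U) {a b : Γ(X, U)}
    (h : (_root_.Formal.modPowπ I k (Coh.structureModule X)).app U a =
      (_root_.Formal.modPowπ I k (Coh.structureModule X)).app U b) : a - b ∈ sIdeal I U ^ k := by
  haveI := (RefHull.Reflexive.isCoh_structure (X := X)).1
  have h1 := (modPowπ_eq_zero_iff (M := Coh.structureModule X) I k hU _).1
    ((map_sub _ _ _).trans (sub_eq_zero.2 h))
  refine Submodule.smul_induction_on h1 (fun r hr n _ => ?_) (fun x y hx hy => add_mem hx hy)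
  exact Ideal.mul_mem_right _ _ hr

theorem bijective_toHHlim [X.IsQuasiAffine]
    (h : Function.Bijective (_root_.Formal.toHHlim I (Coh.structureModule X) 0))
    (hE : FlatMod.IsFinLocFree E) : Function.Bijective (_root_.Formal.toHHlim I E 0) := by
  classical
  haveI : QuasiSeparatedSpace X := inferInstance
  haveI := Modules.AffineSections.isQCoh_of_isFinLocFree hE
  haveI := (RefHull.Reflexive.isCoh_structure (X := X)).1
  haveI : (_root_.RefHull.homSh E (Coh.structureModule X)).IsQuasicoherent :=
    RefHull.HomSh.isQCoh_homSh (HomLocFree.isCoh_of_isFinLocFree hE) (RefHull.Reflexive.isCoh_structure (X := X)).1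
  let O := Coh.structureModule X
  let e := fun (M : X.Modules) => Curves.GlobalSections.h0Equiv M
  -- translation to sections
  have hinjO : ∀ u : Γ(X, ⊤), (∀ k, (_root_.Formal.modPowπ I (k + 1) O).app ⊤ u = 0) → u = 0 := by
    intro u hu
    have : (e O).symm u = 0 := h.1 <| Subtype.ext <| funext fun k => (e _).injective <| by
      refine (Main.h0Equiv_H (A := A) (_root_.Formal.modPowπ I (k + 1) O) _).trans ?_
      rw [map_zero]
      refine ((congrArg _ ((e O).apply_symm_apply u)).trans (hu k)).trans ?_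
      exact (map_zero (e _)).symm
    exact ((e O).apply_symm_apply u).symm.trans ((congrArg (e O) this).trans (map_zero (e O)))
  have hsurjO : ∀ τ : ∀ k, Γ(_root_.Formal.modPow I (k + 1) O, ⊤),
      (∀ k, (_root_.Formal.modPowTrans I (k + 1) O).app ⊤ (τ (k + 1)) = τ k) →
        ∃ u : Γ(X, ⊤), ∀ k, (_root_.Formal.modPowπ I (k + 1) O).app ⊤ u = τ k := by
    intro τ hτ
    obtain ⟨x, hx⟩ := h.2 ⟨fun k => (e _).symm (τ k), fun k => (e _).injective <| by
      refine (Main.h0Equiv_H (A := A) (_root_.Formal.modPowTrans I (k + 1) O) _).trans ?_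
      exact ((congrArg _ ((e _).apply_symm_apply _)).trans (hτ k)).trans ((e _).apply_symm_apply _).symm⟩
    refine ⟨e O x, fun k => ?_⟩
    refine (Main.h0Equiv_H (A := A) (_root_.Formal.modPowπ I (k + 1) O) x).symm.trans ?_
    exact (congrArg (e _) (congrFun (congrArg Subtype.val hx) k)).trans ((e _).apply_symm_apply _)
  -- the forms
  obtain ⟨F, hF⟩ : ∃ F : Finset {f : Γ(X, ⊤) // IsAffineOpen (X.basicOpen f)},
      ∀ x : X, ∃ f ∈ F, x ∈ X.basicOpen f.1 := by
    have hc : ∀ x : X, ∃ f : {f : Γ(X, ⊤) // IsAffineOpen (X.basicOpen f)}, x ∈ X.basicOpen f.1 := fun x => by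
      obtain ⟨_, ⟨_, ⟨r, hr, rfl⟩, rfl⟩, hxr, -⟩ :=
        (Scheme.IsQuasiAffine.isBasis_basicOpen X).exists_subset_of_mem_open (Set.mem_univ x) isOpen_univ
      exact ⟨⟨r, hr⟩, hxr⟩
    choose f hf using hc
    obtain ⟨s, hs⟩ := isCompact_univ.elim_finite_subcover (fun x => (X.basicOpen (f x).1 : Set X))
      (fun x => (X.basicOpen (f x).1).2) fun x _ => Set.mem_iUnion.mpr ⟨x, hf x⟩
    refine ⟨s.image f, fun x => ?_⟩
    obtain ⟨y, hy, hxy⟩ := Set.mem_iUnion₂.mp (hs (Set.mem_univ x))
    exact ⟨f y, Finset.mem_image_of_mem f hy, hxy⟩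
  let D : {f // f ∈ F} → X.Opens := fun f => X.basicOpen f.1.1
  have hDcov : (⊤ : X.Opens) ≤ iSup D := fun x _ => by
    obtain ⟨f, hf, hx⟩ := hF x
    exact Opens.mem_iSup.2 ⟨⟨f, hf⟩, hx⟩
  choose n φ s hs using fun f : {f // f ∈ F} => exists_forms hE f.1.1 f.1.2
  have hzero : ∀ (W : X.Opens) (m : Γ(E, W)), (∀ f i, ev (φ f i) W m = 0) → m = 0 := by
    intro W m hm
    refine sections_ext_cover D E (V := W) (le_top.trans hDcov) fun f => ?_
    rw [show rs E (inf_le_left : W ⊓ D f ≤ W) 0 = 0 from map_zero _]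
    refine eq_zero_of_forms f.1.2 (φ f) (s f) (hs f) (inf_le_right : W ⊓ D f ≤ D f) _ fun i => ?_
    rw [← rf_ev, hm]
    exact map_zero _
  refine ⟨(injective_iff_map_eq_zero _).2 fun x hx => ?_, fun y => ?_⟩
  · -- injectivity
    refine (e E).injective ((hzero _ _ fun f i => hinjO _ fun k => ?_).trans (map_zero (e E)).symm)
    obtain ⟨φb, hφb⟩ := desc_app I (φ f i) (k + 1)
    refine (congrArg (fun t : E ⟶ _ => t.app ⊤ (e E x)) hφb).symm.trans ?_
    have : (_root_.Formal.modPowπ I (k + 1) E).app ⊤ (e E x) = 0 := by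
      refine (Main.h0Equiv_H (A := A) (_root_.Formal.modPowπ I (k + 1) E) x).symm.trans ?_
      exact (congrArg (e _) (congrFun (congrArg Subtype.val hx) k)).trans (map_zero (e _))
    exact (congrArg (φb.app ⊤) this).trans (map_zero _)
  · -- surjectivity
    let σ : ∀ k, Γ(_root_.Formal.modPow I (k + 1) E, ⊤) := fun k => e _ (y.1 k)
    have hσ : ∀ k, (_root_.Formal.modPowTrans I (k + 1) E).app ⊤ (σ (k + 1)) = σ k := fun k =>
      (Main.h0Equiv_H (A := A) (_root_.Formal.modPowTrans I (k + 1) E) _).symm.trans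
        (congrArg (e _) (y.2 k))
    choose φb hφb using fun f i k => desc_app I (φ f i) (k + 1)
    have ht' : ∀ f i, ∃ t : Γ(X, ⊤), ∀ k,
        (_root_.Formal.modPowπ I (k + 1) O).app ⊤ t = (φb f i k).app ⊤ (σ k) := fun f i =>
      hsurjO _ fun k => by
        have e1 : φb f i (k + 1) ≫ _root_.Formal.modPowTrans I (k + 1) O =
            _root_.Formal.modPowTrans I (k + 1) E ≫ φb f i k := by
          rw [← cancel_epi (_root_.Formal.modPowπ I (k + 1 + 1) E), ← Category.assoc, hφb, Category.assoc,
            _root_.Formal.modPowπ_trans, ← Category.assoc, _root_.Formal.modPowπ_trans, hφb]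
        refine (congrArg (fun w : _root_.Formal.modPow I (k + 1 + 1) E ⟶ _root_.Formal.modPow I (k + 1) O =>
          w.app ⊤ (σ (k + 1))) e1).trans ?_
        exact congrArg ((φb f i k).app ⊤) (hσ k)
    choose t ht using ht'
    -- on an affine open the values are congruent to those of a local lift
    have hloc : ∀ (k : ℕ) (V : X.Opens) (hV : IsAffineOpen V), ∃ m : Γ(E, V),
        (_root_.Formal.modPowπ I (k + 1) E).app V m = rs _ (le_top (a := V)) (σ k) ∧
          ∀ f i, rf (le_top (a := V)) (t f i) - ev (φ f i) V m ∈ sIdeal I V ^ (k + 1) := by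
      intro k V hV
      obtain ⟨m, hm⟩ := modPowπ_surjective (M := E) I (k + 1) hV (rs _ (le_top (a := V)) (σ k))
      refine ⟨m, hm, fun f i => sub_mem_of_π_eq I (k + 1) hV ?_⟩
      refine Eq.trans ?_ (congrArg (fun t : E ⟶ _ => t.app V m) (hφb f i k))
      change _ = (φb f i k).app V ((_root_.Formal.modPowπ I (k + 1) E).app V m)
      rw [hm, ← rs_app, ← ht f i k]
      exact (rs_app (_root_.Formal.modPowπ I (k + 1) O) _ (t f i)).symm
    let x₀ : ∀ f, Γ(E, D f) := fun f => ∑ i, rf (le_top (a := D f)) (t f i) • s f i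
    -- the values of the local sections are the global functions
    have hval : ∀ f g j, ev (φ g j) (D f) (x₀ f) = rf (le_top (a := D f)) (t g j) := by
      intro f g j
      let a : Γ(X, ⊤) := f.1.1
      let c : Fin (n f) → Γ(X, D f) := fun i => ev (φ g j) (D f) (s f i)
      have L := fun (M : X.Modules) [M.IsQuasicoherent] => QCoh.Localizing.localizes_of_qcqs M isCompact_univ
        (isQuasiSeparated_univ_iff.mpr (inferInstance : QuasiSeparatedSpace X)) a
      choose N C' hC using fun i => (L O).ext' (show Γ(O, D f) from c i)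
      let C : Fin (n f) → Γ(X, ⊤) := C'
      let N₀ := Finset.univ.sup N
      let C₀ : Fin (n f) → Γ(X, ⊤) := fun i => a ^ (N₀ - N i) * C i
      have hC₀ : ∀ i, rf (le_top (a := D f)) (C₀ i) = rf (le_top (a := D f)) a ^ N₀ * c i := fun i => by
        change X.presheaf.map _ (a ^ (N₀ - N i) * C i) = _
        rw [map_mul, map_pow, show (N₀ : ℕ) = (N₀ - N i) + N i from
          (Nat.sub_add_cancel (Finset.le_sup (f := N) (Finset.mem_univ i))).symm, pow_add, mul_assoc,
          Nat.add_sub_cancel]
        exact congrArg (rf (le_top (a := D f)) a ^ (N₀ - N i) * ·) (hC i)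
      let G : (f : {f // f ∈ F}) → Fin (n f) → Γ(_root_.RefHull.homSh E O, ⊤) := fun f i =>
        _root_.RefHull.ofHom (φ f i) ⊤
      let d : Γ(_root_.RefHull.homSh E O, ⊤) := ∑ i, C₀ i • G f i - a ^ N₀ • G g j
      have hd : ∀ (V : X.Opens) (m : Γ(E, V)), toLin V (rs _ (le_top (a := V)) d) m =
          (show Γ(O, V) from ∑ i, rf (le_top (a := V)) (C₀ i) * ev (φ f i) V m -
            rf (le_top (a := V)) a ^ N₀ * ev (φ g j) V m) := by
        intro V m
        have e1 : ∀ f i, toLin V (rs _ (le_top (a := V)) (G f i)) m = (φ f i).app V m := fun f i =>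
          sec_ext fun y hy => by
            refine (germ_app (rs (_root_.RefHull.homSh E O) (le_top (a := V)) (G f i)) le_rfl m y hy).trans ?_
            exact _root_.RefHull.stalkMapₗ_germ (φ f i) y hy m
        simp only [d, map_sub, map_sum, rs_smul, map_smul, LinearMap.sub_apply, LinearMap.sum_apply,
          LinearMap.smul_apply, e1]
        refine congrArg₂ (· - ·) (Finset.sum_congr rfl fun i _ => rfl) ?_
        exact congrArg (· * ev (φ g j) V m) (map_pow (X.presheaf.map _).hom a N₀)
      have hd0 : rs _ (X.basicOpen_le a) d = 0 := by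
        refine (toLin_bijective f.1.2).1 (LinearMap.ext fun m => ?_)
        rw [map_zero, LinearMap.zero_apply]
        refine (hd (D f) m).trans ?_
        have key : ev (φ g j) (D f) m = ∑ i, ev (φ f i) (D f) m * c i := by
          conv_lhs => rw [← hs f m]
          rw [map_sum]
          simp_rw [map_smul, smul_eq_mul]
          rfl
        change ∑ i, _ - _ = (0 : Γ(X, D f))
        rw [key, Finset.mul_sum, sub_eq_zero]
        exact Finset.sum_congr rfl fun i _ => by rw [hC₀]; ring
      obtain ⟨M, hM⟩ := (L (_root_.RefHull.homSh E O)).sep d hd0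
      -- the global function vanishes
      let u : Γ(X, ⊤) := a ^ M * (∑ i, C₀ i * t f i - a ^ N₀ * t g j)
      have hu : u = 0 := hinjO u fun k => by
        refine sections_ext_cover D _ (V := ⊤) hDcov fun g' => ?_
        refine Eq.trans ?_ (map_zero _).symm
        refine (rs_rs _ (le_top (a := D g')) (inf_le_right : ⊤ ⊓ D g' ≤ D g') _).symm.trans ?_
        refine (congrArg (rs _ _) ((rs_app (_root_.Formal.modPowπ I (k + 1) O) _ u).trans
          ((modPowπ_eq_zero_iff (M := O) I (k + 1) g'.1.2 _).2 ?_))).trans (map_zero _)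
        rw [← sIdeal_pow]
        refine mem_sIdeal_smul_top _ _ ?_
        rw [sIdeal_pow]
        obtain ⟨m, -, hm⟩ := hloc k (D g') g'.1.2
        let r := rf (le_top (a := D g'))
        have h0 : r a ^ M * (∑ i, r (C₀ i) * ev (φ f i) (D g') m - r a ^ N₀ * ev (φ g j) (D g') m) = 0 := by
          have := congrArg (fun z => toLin (D g') (rs _ (le_top (a := D g')) z) m) hM
          simp only [rs_smul, map_smul, map_zero, LinearMap.smul_apply, LinearMap.zero_apply, hd] at this
          refine Eq.trans (congrArg (· * _) (map_pow (X.presheaf.map _).hom a M).symm) ?_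
          exact this
        have hr : r u = r a ^ M * (∑ i, r (C₀ i) * (r (t f i) - ev (φ f i) (D g') m) -
            r a ^ N₀ * (r (t g j) - ev (φ g j) (D g') m)) := by
          refine Eq.trans ?_ (add_zero _)
          rw [← h0]
          simp only [r, u, map_mul, map_sub, map_sum, map_pow, mul_sub, Finset.sum_sub_distrib]
          ring
        change r u ∈ _
        rw [hr]
        exact Ideal.mul_mem_left _ _ (sub_mem (Ideal.sum_mem _ fun i _ => Ideal.mul_mem_left _ _ (hm f i))
          (Ideal.mul_mem_left _ _ (hm g j)))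
      -- conclude on `D f`
      have hu' := congrArg (rf (le_top (a := D f))) hu
      simp only [u, rf, map_mul, map_sub, map_sum, map_pow, map_zero] at hu'
      have hunit : IsUnit (rf (le_top (a := D f)) a) := RingedSpace.isUnit_res_basicOpen _ a
      have h2 := (hunit.pow M).mul_right_eq_zero.mp hu'
      simp only [hC₀] at h2
      rw [map_sum]
      refine (hunit.pow N₀).mul_left_cancel ?_
      refine Eq.trans ?_ (sub_eq_zero.mp h2)
      rw [Finset.mul_sum]
      exact Finset.sum_congr rfl fun i _ => by rw [map_smul, smul_eq_mul]; ring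
    -- glue
    obtain ⟨x, hx, -⟩ := TopCat.Sheaf.existsUnique_gluing'
      (⟨E.presheaf, E.isSheaf⟩ : TopCat.Sheaf Ab.{u} X) D ⊤ (fun f => homOfLE le_top) hDcov x₀
      fun f f' => by
        change rs E (inf_le_left : D f ⊓ D f' ≤ D f) _ = rs E (inf_le_right : D f ⊓ D f' ≤ D f') _
        refine sub_eq_zero.1 (hzero _ _ fun g j => ?_)
        rw [map_sub, ← rf_ev, ← rf_ev, hval, hval]
        exact sub_eq_zero.2 ((QCoh.Localizing.resR_resR le_top inf_le_left (t g j)).trans
          (QCoh.Localizing.resR_resR le_top inf_le_right (t g j)).symm)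
    refine ⟨(e E).symm x, Subtype.ext (funext fun k => (e _).injective ?_)⟩
    refine (Main.h0Equiv_H (A := A) (_root_.Formal.modPowπ I (k + 1) E) _).trans ?_
    refine (congrArg _ ((e E).apply_symm_apply x)).trans ?_
    refine sections_ext_cover D _ (V := ⊤) hDcov fun f => ?_
    have hle : (⊤ : X.Opens) ⊓ D f ≤ D f := inf_le_right
    refine (rs_rs _ (le_top (a := D f)) hle _).symm.trans (Eq.trans ?_ (rs_rs _ (le_top (a := D f)) hle _))
    refine congrArg (rs _ hle) ?_
    refine (rs_app (_root_.Formal.modPowπ I (k + 1) E) _ x).trans ?_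
    obtain ⟨m, hm, hmem⟩ := hloc k (D f) f.1.2
    refine Eq.trans ?_ hm
    refine (congrArg _ (hx f)).trans (sub_eq_zero.1 ((map_sub _ _ _).symm.trans ?_))
    refine (modPowπ_eq_zero_iff (M := E) I (k + 1) f.1.2 _).2 ?_
    rw [← hs f m, show x₀ f = ∑ i, rf (le_top (a := D f)) (t f i) • s f i from rfl, ← Finset.sum_sub_distrib]
    refine Submodule.sum_mem _ fun i _ => ?_
    rw [← sub_smul]
    exact Submodule.smul_mem_smul (hmem f i) Submodule.mem_top

end Groth.Agent.H78.Faithful.QuasiAffine
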